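import Cfsg.Agent.S1081

/-!
The remaining graph automorphisms of `D₄`: the transpositions of the outer nodes.
-/

set_option autoImplicit false

namespace Cfsg.Agent.Lib.Steinberg.AutD4

open Cfsg.Lie Cfsg.Agent.Lib.GraphAut.Basic Cfsg.Agent.S1081

def rhoD4c : List ℕ := [0, 1, 3, 2, 4, 5, 6, 8, 7, 9, 11, 10, 13, 12, 14, 16, 15, 17, 18, 19, 21, 20, 22, 23]
def rhoInvD4c : List ℕ := [0, 1, 3, 2, 4, 5, 6, 8, 7, 9, 11, 10, 13, 12, 14, 16, 15, 17, 18, 19, 21, 20, 22, 23]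
def rhoHD4c : List ℕ := [0, 1, 3, 2]
def rhoHInvD4c : List ℕ := [0, 1, 3, 2]
def gamD4c : List ℤ := [1, 1, 1, 1, 1, 1, 1, 1, 1, 1, 1, 1, 1, 1, 1, 1, 1, 1, 1, 1, 1, 1, 1, 1]
theorem checkD4c : checkSym chevD4 rhoD4c rhoInvD4c rhoHD4c rhoHInvD4c gamD4c = true := by decide +kernel
theorem check2D4c : check2 chevD4 (rhoOf rhoD4c) (gamOf gamD4c) rhoHD4c = true := by decide +kernel

def rhoD4d : List ℕ := [0, 1, 2, 6, 7, 10, 3, 4, 8, 9, 5, 11, 12, 18, 14, 15, 19, 20, 13, 16, 17, 21, 22, 23]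
def rhoInvD4d : List ℕ := [0, 1, 2, 6, 7, 10, 3, 4, 8, 9, 5, 11, 12, 18, 14, 15, 19, 20, 13, 16, 17, 21, 22, 23]
def rhoHD4d : List ℕ := [2, 1, 0, 3]
def rhoHInvD4d : List ℕ := [2, 1, 0, 3]
def gamD4d : List ℤ := [1, 1, 1, -1, -1, 1, -1, -1, 1, 1, 1, 1, 1, 1, 1, 1, -1, -1, 1, -1, -1, 1, 1, 1]
theorem checkD4d : checkSym chevD4 rhoD4d rhoInvD4d rhoHD4d rhoHInvD4d gamD4d = true := by decide +kernel
theorem check2D4d : check2 chevD4 (rhoOf rhoD4d) (gamOf gamD4d) rhoHD4d = true := by decide +kernel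

def rhoD4e : List ℕ := [0, 1, 6, 3, 8, 11, 2, 7, 4, 9, 10, 5, 18, 13, 14, 19, 16, 21, 12, 15, 20, 17, 22, 23]
def rhoInvD4e : List ℕ := [0, 1, 6, 3, 8, 11, 2, 7, 4, 9, 10, 5, 18, 13, 14, 19, 16, 21, 12, 15, 20, 17, 22, 23]
def rhoHD4e : List ℕ := [3, 1, 2, 0]
def rhoHInvD4e : List ℕ := [3, 1, 2, 0]
def gamD4e : List ℤ := [1, 1, -1, 1, -1, 1, -1, 1, -1, 1, 1, 1, 1, 1, 1, -1, 1, -1, 1, -1, 1, -1, 1, 1]
theorem checkD4e : checkSym chevD4 rhoD4e rhoInvD4e rhoHD4e rhoHInvD4e gamD4e = true := by decide +kernel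
theorem check2D4e : check2 chevD4 (rhoOf rhoD4e) (gamOf gamD4e) rhoHD4e = true := by decide +kernel

/-- Graph automorphisms of `D₄`. -/
theorem exists_D4 {F : Type*} [Field F] (L : List ℕ)
    (hL : L ∈ [[2, 1, 3, 0], [3, 1, 0, 2], [0, 1, 3, 2], [2, 1, 0, 3], [3, 1, 2, 0]]) :
    ∃ α : ↥(chevD4.group F) ≃* ↥(chevD4.group F), ∀ (g : ↥(chevD4.group F)) (i : ℕ) (t : F), i < chevD4.rank →
      (((g : GL chevD4.Idx F) : Matrix chevD4.Idx chevD4.Idx F) = chevD4.x F (chevD4.simple i) t →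
        ((α g : GL chevD4.Idx F) : Matrix chevD4.Idx chevD4.Idx F) = chevD4.x F (chevD4.simple (L.getD i 0)) t) ∧
      (((g : GL chevD4.Idx F) : Matrix chevD4.Idx chevD4.Idx F) = chevD4.x F (chevD4.neg (chevD4.simple i)) t →
        ((α g : GL chevD4.Idx F) : Matrix chevD4.Idx chevD4.Idx F) = chevD4.x F (chevD4.neg (chevD4.simple (L.getD i 0))) t) := by
  simp only [List.mem_cons, List.not_mem_nil, or_false] at hL
  rcases hL with rfl | rfl | rfl | rfl | rfl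
  · exact final _ _ _ _ _ _ checkD4a check2D4a
  · exact final _ _ _ _ _ _ checkD4b check2D4b
  · exact final _ _ _ _ _ _ checkD4c check2D4c
  · exact final _ _ _ _ _ _ checkD4d check2D4d
  · exact final _ _ _ _ _ _ checkD4e check2D4e

end Cfsg.Agent.Lib.Steinberg.AutD4
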