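import Cfsg.Prelude.Def_ChevAutomorphisms
import Cfsg.Agent.Lib.Chev.Tables
import Cfsg.Agent.Lib.Lie.Facts

/-!
Tables for the exceptional graph automorphisms of `B₂`, `F₄` (characteristic 2) and `G₂` (characteristic 3):
`x_r(t) ↦ x_{ρ r}(t ^ λ r)`.
-/

set_option autoImplicit false
set_option maxRecDepth 100000

namespace Cfsg.Agent.Lib.Steinberg.AutExcTab

open Cfsg _root_.Cfsg.Lie ChevalleyDatum
open Cfsg.Agent.Lib.Chev
open Tables

/-- The terms of the commutator word on the image side. -/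
def preL (D : ChevalleyDatum) (ρ lam : ℕ → ℕ) (r s : ℕ) : List (ℕ × ℤ × ℕ × ℕ) :=
  (D.commTerms (ρ r) (ρ s)).map fun c => (c.1, c.2.1 * (-1) ^ c.2.2.1, c.2.2.1 * lam r, c.2.2.2 * lam s)

/-- The terms of the commutator word on the source side. -/
def preR (D : ChevalleyDatum) (ρ lam : ℕ → ℕ) (r s : ℕ) : List (ℕ × ℤ × ℕ × ℕ) :=
  (D.commTerms r s).map fun c => (ρ c.1, c.2.1 * (-1) ^ (c.2.2.1 * lam c.1), c.2.2.1 * lam c.1, c.2.2.2 * lam c.1)

/-- Reduction modulo `p`, dropping the zero terms. -/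
def nrm (p : ℤ) (L : List (ℕ × ℤ × ℕ × ℕ)) : List (ℕ × ℤ × ℕ × ℕ) :=
  (L.map fun c => (c.1, c.2.1 % p, c.2.2)).filter fun c => c.2.1 != 0

/-- The root elements of the list commute modulo `p`. -/
def comms (D : ChevalleyDatum) (p : ℤ) (L : List (ℕ × ℤ × ℕ × ℕ)) : Bool :=
  L.all fun x => L.all fun y => (x.1 == y.1) ||
    (decide (y.1 ≠ D.neg x.1) && (D.commTerms x.1 y.1).all fun c => c.2.1 % p == 0)

/-- The condition for a pair of roots. -/
def pairOK (D : ChevalleyDatum) (ρ lam : ℕ → ℕ) (p : ℤ) (r s : ℕ) : Bool :=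
  (nrm p (preL D ρ lam r s)).isPerm (nrm p (preR D ρ lam r s)) && comms D p (nrm p (preL D ρ lam r s))

/-- The condition for all pairs of roots. -/
def allPairs (D : ChevalleyDatum) (ρ lam : ℕ → ℕ) (p : ℤ) : Bool :=
  allBelow D.nroots fun r => allBelow D.nroots fun s => (s == r) || (s == D.neg r) || pairOK D ρ lam p r s

/-- The conditions on the tables. -/
def basicOK (D : ChevalleyDatum) (ρ lam : ℕ → ℕ) (p : ℕ) (L : List ℕ) : Bool :=
  allBelow D.nroots (fun r => decide (ρ r < D.nroots) && decide (ρ (D.neg r) = D.neg (ρ r)) &&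
    (lam r == 1 || lam r == p) && allBelow D.nroots fun s => (r == s) || decide (ρ r ≠ ρ s)) &&
  allBelow D.rank (fun j => decide (L.getD j 0 < D.rank) &&
    decide (ρ (D.simple j) = D.simple (L.getD j 0)) && decide (lam (D.simple j) = D.graphExp p j (L.getD j 0)) &&
    decide (lam (D.neg (D.simple j)) = D.graphExp p j (L.getD j 0)) &&
    allBelow D.rank fun k => (j == k) || decide (L.getD j 0 ≠ L.getD k 0))

def rhoG2 : List ℕ := [2, 3, 0, 1, 5, 4, 7, 6, 10, 11, 8, 9]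
def lamG2 : List ℕ := [1, 1, 3, 3, 3, 1, 1, 3, 3, 3, 1, 1]

def rhoB2 : List ℕ := [1, 0, 3, 2, 5, 4, 7, 6]
def lamB2 : List ℕ := [1, 2, 2, 1, 1, 2, 2, 1]

def rhoF4 : List ℕ := [3, 7, 8, 0, 9, 11, 18, 1, 2, 4, 15, 5, 16, 21, 23, 10, 12, 19, 6, 17, 22, 13, 20, 14, 33, 27, 34, 25, 30, 41, 28, 35, 37, 24, 26, 31, 42, 32, 43, 45, 46, 29, 36, 38, 47, 39, 40, 44]
def lamF4 : List ℕ := [1, 1, 1, 2, 1, 1, 1, 2, 2, 2, 2, 2, 2, 2, 2, 1, 1, 1, 2, 2, 2, 1, 1, 1, 1, 1, 1, 2, 2, 2, 1, 1, 1, 2, 2, 2, 2, 2, 2, 2, 2, 1, 1, 1, 2, 1, 1, 1]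

/-- Lookup in a table of numbers. -/
def getL (L : List ℕ) (d r : ℕ) : ℕ := L.getD r d

theorem basic_G2 : basicOK chevG2 (getL rhoG2 0) (getL lamG2 1) 3 [1, 0] = true := by decide +kernel
theorem basic_B2 : basicOK chevB2 (getL rhoB2 0) (getL lamB2 1) 2 [1, 0] = true := by decide +kernel
theorem basic_F4 : basicOK chevF4 (getL rhoF4 0) (getL lamF4 1) 2 [3, 2, 1, 0] = true := by decide +kernel
theorem pairs_G2 : allPairs chevG2 (getL rhoG2 0) (getL lamG2 1) 3 = true := by decide +kernel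
theorem pairs_B2 : allPairs chevB2 (getL rhoB2 0) (getL lamB2 1) 2 = true := by decide +kernel
theorem pairs_F4 : allPairs chevF4 (getL rhoF4 0) (getL lamF4 1) 2 = true := by decide +kernel

end Cfsg.Agent.Lib.Steinberg.AutExcTab
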