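import Cfsg.Agent.Lib.Steinberg.Center
import Cfsg.Prelude.Def_ChevAutomorphisms

/-!
Characters of the root lattice and their diagonal matrices: a character is determined by its values on the
fundamental roots, and its diagonal matrix conjugates root elements by the expected scalar; a diagonal matrix
of a character lying in the Chevalley group lies in `H`.
-/

set_option autoImplicit false
set_option linter.unusedSectionVars false
set_option linter.unusedVariables false

namespace Cfsg.Agent.Lib.Steinberg.CharDiag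

open scoped MatrixGroups Matrix
open Cfsg _root_.Cfsg.Lie ChevalleyDatum
open Cfsg.Agent.Lib.Chev
open Tables Tables2 Tables3 Raise Basic AxBasic Products Mono1 Mono2
open _root_.Cfsg.Agent.Lib.Steinberg.Rel _root_.Cfsg.Agent.Lib.Steinberg.Conj _root_.Cfsg.Agent.Lib.Steinberg.Bruhat
open _root_.Cfsg.Agent.Lib.Steinberg.Exch _root_.Cfsg.Agent.Lib.Steinberg.Present
open Cfsg.Agent.Lib.Lie.Facts (IsData)
open Cfsg.Agent.Lib.Lie.AxOf (ax_of_mem)
open Cfsg.Agent.Lib.Lie.DiagConj (dgm dgm_mul_x')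
open Cfsg.Agent.Lib.Lie.Core (chainTerms)

universe u v

variable {D : ChevalleyDatum} {F : Type u} [Field F]

/-- Every positive non-fundamental root is a positive root plus a fundamental root. -/
def stepCheck (D : ChevalleyDatum) (W : List (ℕ × ℕ)) : Bool :=
  allBelow D.nroots fun r =>
    !decide (D.IsPosRoot r) ||
      anyBelow D.rank (fun i => D.simple i == r) ||
      (let w := W.getD r (0, 0)
       decide (w.1 < D.rank) && decide (D.IsPosRoot w.2) && D.chainRoot (D.simple w.1) w.2 1 == some r)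

/-- Witnesses for `G2`. -/
def stepG2 : List (ℕ × ℕ) := [(0,0),(0,0),(0,0),(0,0),(0,0),(0,0),(0,0),(0,0),(0,6),(0,8),(0,9),(1,10)]

/-- Witnesses for `B2`. -/
def stepB2 : List (ℕ × ℕ) := [(0,0),(0,0),(0,0),(0,0),(0,0),(0,0),(0,4),(0,6)]

/-- Witnesses for `D4`. -/
def stepD4 : List (ℕ × ℕ) := [(0,0),(0,0),(0,0),(0,0),(0,0),(0,0),(0,0),(0,0),(0,0),(0,0),(0,0),(0,0),(0,0),(0,0),(0,0),(1,12),(1,13),(2,15),(0,0),(0,14),(0,15),(0,16),(0,17),(1,22)]

/-- Witnesses for `F4`. -/
def stepF4 : List (ℕ × ℕ) := [(0,0),(0,0),(0,0),(0,0),(0,0),(0,0),(0,0),(0,0),(0,0),(0,0),(0,0),(0,0),(0,0),(0,0),(0,0),(0,0),(0,0),(0,0),(0,0),(0,0),(0,0),(0,0),(0,0),(0,0),(0,0),(0,0),(2,24),(0,0),(1,25),(1,26),(1,28),(1,29),(2,31),(0,0),(0,27),(0,28),(0,29),(0,30),(0,31),(0,32),(1,39),(0,37),(0,38),(0,39),(0,40),(1,44),(2,45),(3,46)]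

/-- Witnesses for `E6`. -/
def stepE6 : List (ℕ × ℕ) := [(0,0),(0,0),(0,0),(0,0),(0,0),(0,0),(0,0),(0,0),(0,0),(0,0),(0,0),(0,0),(0,0),(0,0),(0,0),(0,0),(0,0),(0,0),(0,0),(0,0),(0,0),(0,0),(0,0),(0,0),(0,0),(0,0),(0,0),(0,0),(0,0),(0,0),(0,0),(0,0),(0,0),(0,0),(0,0),(0,0),(0,0),(0,0),(4,36),(0,0),(3,37),(3,38),(0,0),(2,39),(2,40),(2,41),(0,0),(1,39),(1,40),(1,41),(1,43),(1,44),(1,45),(3,51),(3,52),(4,54),(0,0),(0,42),(0,43),(0,44),(0,45),(0,50),(0,51),(0,52),(0,53),(0,54),(0,55),(2,64),(2,65),(2,66),(3,69),(1,70)]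

/-- Witnesses for `E7`. -/
def stepE7 : List (ℕ × ℕ) := [(0,0),(0,0),(0,0),(0,0),(0,0),(0,0),(0,0),(0,0),(0,0),(0,0),(0,0),(0,0),(0,0),(0,0),(0,0),(0,0),(0,0),(0,0),(0,0),(0,0),(0,0),(0,0),(0,0),(0,0),(0,0),(0,0),(0,0),(0,0),(0,0),(0,0),(0,0),(0,0),(0,0),(0,0),(0,0),(0,0),(0,0),(0,0),(0,0),(0,0),(0,0),(0,0),(0,0),(0,0),(0,0),(0,0),(0,0),(0,0),(0,0),(0,0),(0,0),(0,0),(0,0),(0,0),(0,0),(0,0),(0,0),(0,0),(0,0),(0,0),(0,0),(0,0),(0,0),(0,0),(0,0),(5,63),(0,0),(4,64),(4,65),(0,0),(3,66),(3,67),(3,68),(0,0),(2,69),(2,70),(2,71),(2,72),(0,0),(1,69),(1,70),(1,71),(1,72),(1,74),(1,75),(1,76),(1,77),(3,84),(3,85),(3,86),(4,88),(4,89),(5,91),(0,0),(0,73),(0,74),(0,75),(0,76),(0,77),(0,83),(0,84),(0,85),(0,86),(0,87),(0,88),(0,89),(0,90),(0,91),(0,92),(2,103),(2,104),(2,105),(2,106),(2,107),(2,108),(3,112),(3,113),(3,114),(4,117),(1,115),(1,116),(1,117),(1,118),(3,122),(2,123),(0,124)]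

/-- Witnesses for `E8`. -/
def stepE8 : List (ℕ × ℕ) := [(0,0),(0,0),(0,0),(0,0),(0,0),(0,0),(0,0),(0,0),(0,0),(0,0),(0,0),(0,0),(0,0),(0,0),(0,0),(0,0),(0,0),(0,0),(0,0),(0,0),(0,0),(0,0),(0,0),(0,0),(0,0),(0,0),(0,0),(0,0),(0,0),(0,0),(0,0),(0,0),(0,0),(0,0),(0,0),(0,0),(0,0),(0,0),(0,0),(0,0),(0,0),(0,0),(0,0),(0,0),(0,0),(0,0),(0,0),(0,0),(0,0),(0,0),(0,0),(0,0),(0,0),(0,0),(0,0),(0,0),(0,0),(0,0),(0,0),(0,0),(0,0),(0,0),(0,0),(0,0),(0,0),(0,0),(0,0),(0,0),(0,0),(0,0),(0,0),(0,0),(0,0),(0,0),(0,0),(0,0),(0,0),(0,0),(0,0),(0,0),(0,0),(0,0),(0,0),(0,0),(0,0),(0,0),(0,0),(0,0),(0,0),(0,0),(0,0),(0,0),(0,0),(0,0),(0,0),(0,0),(0,0),(0,0),(0,0),(0,0),(0,0),(0,0),(0,0),(0,0),(0,0),(0,0),(0,0),(0,0),(0,0),(0,0),(0,0),(0,0),(0,0),(0,0),(0,0),(0,0),(0,0),(0,0),(0,0),(0,0),(0,0),(0,0),(6,120),(0,0),(5,121),(5,122),(0,0),(4,123),(4,124),(4,125),(0,0),(3,126),(3,127),(3,128),(3,129),(0,0),(2,130),(2,131),(2,132),(2,133),(2,134),(0,0),(1,130),(1,131),(1,132),(1,13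3),(1,134),(1,136),(1,137),(1,138),(1,139),(1,140),(3,148),(3,149),(3,150),(3,151),(4,153),(4,154),(4,155),(5,157),(5,158),(6,160),(0,0),(0,135),(0,136),(0,137),(0,138),(0,139),(0,140),(0,147),(0,148),(0,149),(0,150),(0,151),(0,152),(0,153),(0,154),(0,155),(0,156),(0,157),(0,158),(0,159),(0,160),(0,161),(2,174),(2,175),(2,176),(2,177),(2,178),(2,179),(2,180),(2,181),(2,182),(2,183),(3,188),(3,189),(3,190),(3,191),(3,192),(3,193),(4,197),(4,198),(4,199),(5,202),(1,194),(1,195),(1,196),(1,197),(1,198),(1,199),(1,200),(1,201),(1,202),(1,203),(3,210),(3,211),(3,212),(3,213),(4,217),(2,214),(2,215),(2,216),(2,217),(2,218),(3,223),(1,224),(0,219),(0,220),(0,221),(0,222),(0,223),(0,224),(2,231),(0,225),(1,232),(3,234),(4,235),(5,236),(6,237),(7,238)]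


theorem step_of_check {D : ChevalleyDatum} {W : List (ℕ × ℕ)} (hc : stepCheck D W = true) (r : ℕ)
    (hr : D.IsPosRoot r) : (∃ i, i < D.rank ∧ D.simple i = r) ∨
      ∃ i r', i < D.rank ∧ D.IsPosRoot r' ∧ D.chainRoot (D.simple i) r' 1 = some r := by
  have := allBelow_spec hc r hr.1
  simp only [hr, decide_true, Bool.not_true, Bool.false_or, Bool.or_eq_true, Bool.and_eq_true,
    decide_eq_true_eq, beq_iff_eq] at this
  rcases this with h | ⟨⟨h1, h2⟩, h3⟩
  · obtain ⟨i, hi, e⟩ := anyBelow_spec h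
    left
    exact ⟨i, hi, by simpa using e⟩
  · right
    exact ⟨_, _, h1, h2, h3⟩

set_option maxRecDepth 100000 in
theorem step_of_mem (hD : IsData D) (r : ℕ) (hr : D.IsPosRoot r) : (∃ i, i < D.rank ∧ D.simple i = r) ∨
      ∃ i r', i < D.rank ∧ D.IsPosRoot r' ∧ D.chainRoot (D.simple i) r' 1 = some r := by
  simp only [IsData, List.mem_cons, List.not_mem_nil, or_false] at hD
  rcases hD with rfl | rfl | rfl | rfl | rfl | rfl | rfl
  · exact step_of_check (W := stepG2) (by decide +kernel) r hr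
  · exact step_of_check (W := stepB2) (by decide +kernel) r hr
  · exact step_of_check (W := stepD4) (by decide +kernel) r hr
  · exact step_of_check (W := stepF4) (by decide +kernel) r hr
  · exact step_of_check (W := stepE6) (by decide +kernel) r hr
  · exact step_of_check (W := stepE7) (by decide +kernel) r hr
  · exact step_of_check (W := stepE8) (by decide +kernel) r hr

/-- The lattice character with the values of `χ` on the fundamental roots. -/
noncomputable def psi (D : ChevalleyDatum) (χ : ℕ → Fˣ) (r : ℕ) : Fˣ :=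
  ∏ j ∈ Finset.range D.rank, χ (D.simple j) ^ coef D r j

lemma psi_simple (h : Tab D) (χ : ℕ → Fˣ) {i : ℕ} (hi : i < D.rank) : psi D χ (D.simple i) = χ (D.simple i) := by
  unfold psi
  rw [Finset.prod_eq_single i]
  · rw [h.coef_simple i hi i hi]; simp
  · intro j hj hne
    rw [h.coef_simple i hi j (Finset.mem_range.1 hj), if_neg hne, zpow_zero]
  · intro hn
    exact absurd (Finset.mem_range.2 hi) hn

lemma psi_add {χ : ℕ → Fˣ} {a b c : ℕ} (e : ∀ j, j < D.rank → coef D a j = coef D b j + coef D c j) :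
    psi D χ a = psi D χ b * psi D χ c := by
  unfold psi
  rw [← Finset.prod_mul_distrib]
  apply Finset.prod_congr rfl
  intro j hj
  rw [e j (Finset.mem_range.1 hj), zpow_add]

/-- A character of the root lattice is determined by its values on the fundamental roots. -/
theorem char_eq_psi (hD : IsData D) {χ : ℕ → Fˣ} (hχ : D.IsRootCharacter χ) {r : ℕ} (hr : r < D.nroots) :
    χ r = psi D χ r := by
  have h := tab_of_mem hD
  have key : ∀ k : ℕ, ∀ r, D.IsPosRoot r → (ht D r).toNat ≤ k → χ r = psi D χ r := by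
    intro k
    induction k with
    | zero =>
      intro r hr hk
      have := ht_pos h hr
      omega
    | succ k ih =>
      intro r hr hk
      rcases step_of_mem hD r hr with ⟨i, hi, rfl⟩ | ⟨i, r', hi, hr', e⟩
      · exact (psi_simple h χ hi).symm
      · obtain ⟨hlt, hv⟩ := chainRoot_spec h (h.simple_lt i hi) le_rfl e
        have hv' : ∀ j, j < D.rank → coef D r j = coef D r' j + coef D (D.simple i) j := by
          intro j hj
          rw [hv j hj]; simp
        have hht : ht D r = ht D r' + 1 := by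
          have e0 : ∑ j ∈ Finset.range D.rank, coef D (D.simple i) j = 1 := by
            rw [Finset.sum_eq_single i]
            · rw [h.coef_simple i hi i hi]; simp
            · intro j hj hne
              rw [h.coef_simple i hi j (Finset.mem_range.1 hj), if_neg hne]
            · intro hn
              exact absurd (Finset.mem_range.2 hi) hn
          calc ht D r = ∑ j ∈ Finset.range D.rank, (coef D r' j + coef D (D.simple i) j) := by
                unfold ht lin
                apply Finset.sum_congr rfl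
                intro j hj
                rw [hv' j (Finset.mem_range.1 hj), one_mul]
            _ = ht D r' + 1 := by
                rw [Finset.sum_add_distrib, e0]
                simp [ht, lin]
        have h1 := ht_pos h hr'
        rw [hχ.2 _ _ _ (h.simple_lt i hi) hr'.1 e, ih r' hr' (by omega), psi_add hv', mul_comm,
          psi_simple h χ hi]
  by_cases hp : D.IsPosRoot r
  · exact key _ r hp le_rfl
  · have hneg := (not_isPos_iff h hr).mp hp
    have h1 : D.IsPosRoot (D.neg r) := (isPosRoot_neg h hr).mpr hneg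
    have h2 := key _ _ h1 le_rfl
    have h3 := hχ.1 _ (h.neg_lt r hr)
    rw [h.neg_neg r hr] at h3
    rw [h3, h2]
    unfold psi
    rw [← Finset.prod_inv_distrib]
    apply Finset.prod_congr rfl
    intro j hj
    rw [h.coef_neg r hr j (Finset.mem_range.1 hj), zpow_neg, inv_inv]

lemma charDiag_eq (χ : ℕ → Fˣ) : D.charDiag F χ = dgm D (fun s => (χ s : F)) := rfl

/-- Conjugation of a root element by the diagonal matrix of a character. -/
theorem charDiag_mul_x (hD : IsData D) {χ : ℕ → Fˣ} (hχ : D.IsRootCharacter χ) {r : ℕ} (hr : r < D.nroots) (t : F) :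
    D.charDiag F χ * D.x F r t = D.x F r ((χ r : F) * t) * D.charDiag F χ := by
  have h := tab_of_mem hD
  rw [charDiag_eq]
  refine dgm_mul_x' (D := D) (fun s => (χ s : F)) r hr t ?_ ?_
  · intro _ _
    have := hχ.1 r hr
    change ((χ (D.neg r) : Fˣ) : F) * _ = 1
    rw [this, Units.val_inv_eq_inv_val, inv_mul_cancel₀ (χ r).ne_zero]
  · intro c hc _ _ e he hlt
    unfold chainTerms at he
    simp only [List.mem_flatMap, List.mem_filter, List.mem_map, decide_eq_true_eq] at he
    obtain ⟨a, ⟨ha, rfl⟩, q, hq, rfl⟩ := he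
    have hv := h.chain_vec r hr a ha q hq
    simp only at hlt ⊢
    rw [char_eq_psi hD hχ hlt, char_eq_psi hD hχ hr, char_eq_psi hD hχ hc]
    rw [← Units.val_pow_eq_pow_val, ← Units.val_mul]
    congr 1
    unfold psi
    rw [← Finset.prod_pow, ← Finset.prod_mul_distrib]
    apply Finset.prod_congr rfl
    intro j hj
    rw [hv j (Finset.mem_range.1 hj), zpow_add, mul_comm, ← zpow_natCast, ← zpow_mul]
    congr 2
    push_cast
    ring

lemma charDiag_mul_inv (χ : ℕ → Fˣ) : D.charDiag F χ * D.charDiag F (fun s => (χ s)⁻¹) = 1 := by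
  simp only [ChevalleyDatum.charDiag, Matrix.diagonal_mul_diagonal]
  rw [← Matrix.diagonal_one]
  congr 1
  funext i
  cases i with
  | inl i => simp
  | inr i => simp

/-- The conjugation formula. -/
theorem charDiag_conj (hD : IsData D) {χ : ℕ → Fˣ} (hχ : D.IsRootCharacter χ) {r : ℕ} (hr : r < D.nroots) (t : F) :
    D.charDiag F χ * D.x F r t * D.charDiag F (fun s => (χ s)⁻¹) = D.x F r ((χ r : F) * t) := by
  rw [charDiag_mul_x hD hχ hr, mul_assoc, charDiag_mul_inv, mul_one]

open Cfsg.Agent.Lib.Chev.Torus in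
/-- An element of `U` with a diagonal matrix is trivial. -/
theorem eq_one_of_diagonal (h : Tab D) {v : GL D.Idx F} (hv : v ∈ D.posUnipotent F) {d : D.Idx → F}
    (hd : (v : Matrix D.Idx D.Idx F) = Matrix.diagonal d) : v = 1 := by
  have hr := Unipotent.posUnipotent_le_raising h hv
  rw [mem_raisingSubgroup] at hr
  apply Units.ext
  ext i j
  by_contra hne
  by_cases hij : i = j
  · subst hij
    have := hr i i (by
      intro h0
      apply hne
      simp only [Matrix.sub_apply, sub_eq_zero] at h0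
      simpa using h0)
    omega
  · apply hne
    rw [hd]
    simp [hij]

open Cfsg.Agent.Lib.Chev.Torus Mono3 in
/-- An element of the group with the diagonal matrix of a character lies in `H`. -/
theorem mem_H_of_charDiag (hD : IsData D) {χ : ℕ → Fˣ} (hχ : D.IsRootCharacter χ) (g : GL D.Idx F)
    (hg : g ∈ D.group F) (hgχ : (g : Matrix D.Idx D.Idx F) = D.charDiag F χ) : g ∈ D.diagonalSubgroup F := by
  have h := tab_of_mem hD
  have h2 := tab2_of_mem hD
  have ax : Ax D F := ax_of_mem hD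
  have hinv : ((g⁻¹ : GL D.Idx F) : Matrix D.Idx D.Idx F) = D.charDiag F (fun s => (χ s)⁻¹) := by
    exact left_inv_eq_right_inv (a := (g : Matrix D.Idx D.Idx F)) (Units.inv_mul g) (by rw [hgχ, charDiag_mul_inv])
  have hconj : ∀ r t, r < D.nroots → g * xG ax r t * g⁻¹ = xG ax r ((χ r : F) * t) := by
    intro r t hr
    apply Units.ext
    simp only [Units.val_mul, xG_val, hgχ, hinv]
    exact charDiag_conj hD hχ hr t
  have hnormU : ∀ b ∈ D.posUnipotent F, g * b * g⁻¹ ∈ D.posUnipotent F := by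
    intro b hb
    rw [posUnipotent_eq ax] at hb ⊢
    refine rootClosure_induction ax (Q := fun u => g * u * g⁻¹ ∈ rootClosure ax D.IsPosRoot) (by simp) ?_ ?_ hb
    · intro r t hr
      rw [hconj r t hr.1]
      exact xG_mem_rootClosure ax hr _
    · intro a b ha hb
      have e : g * (a * b) * g⁻¹ = (g * a * g⁻¹) * (g * b * g⁻¹) := by group
      rw [e]
      exact Subgroup.mul_mem _ ha hb
  have hg0 := hg
  rw [← range_eq_group ax (thetaAB ax) (y := yAB D F) (fun r t _ => thetaAB_gen ax r t) gen_AB] at hg0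
  obtain ⟨γ, hγ⟩ := hg0
  obtain ⟨u, hu, n, hn, u', hu', rfl⟩ := bruhat hD stRel_AB ax (thetaAB ax) (fun r t _ => thetaAB_gen ax r t) gen_AB γ
  have hmapU : ∀ {v : D.SteinbergCover F}, v ∈ Ub D (yAB D F) → thetaAB ax v ∈ D.posUnipotent F := by
    intro v hv
    rw [posUnipotent_eq ax]
    refine Yc_induction stRel_AB (fun r hr => hr.1) (Q := fun v => thetaAB ax v ∈ rootClosure ax D.IsPosRoot) ?_ ?_ ?_ hv
    · simp
    · intro r t hr
      have e : thetaAB ax (yAB D F r t) = xG ax r t := thetaAB_gen ax r t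
      rw [e]
      exact xG_mem_rootClosure ax hr t
    · intro a b ha hb
      rw [map_mul]
      exact Subgroup.mul_mem _ ha hb
  have hm : thetaAB ax n ∈ D.monomialSubgroup F :=
    map_Nb_mem hD stRel_AB ax (thetaAB ax) (fun r t _ => thetaAB_gen ax r t) hn
  set m := thetaAB ax n with hmdef
  set v := (g * thetaAB ax u' * g⁻¹) * thetaAB ax u with hvdef
  have hvU : v ∈ D.posUnipotent F := Subgroup.mul_mem _ (hnormU _ (hmapU hu')) (hmapU hu)
  have hgv : g = v * m := by
    rw [← hγ]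
    simp only [map_mul, hvdef, ← hγ, hmdef]
    group
  obtain ⟨π, c, H⟩ := exists_isNor h h2 ax hm
  have hmH : m ∈ D.diagonalSubgroup F := by
    apply Mono2.mem_H_of_pos h h2 ax hm H
    intro s hs
    have e := H.conj s 1
    rw [mul_one] at e
    apply isPos_of_conj_mem_borel h h2 ax (π s).isLt (c s).ne_zero (s := 0)
    rw [← e]
    apply (le_sup_left : D.posUnipotent F ≤ D.borelSubgroup F)
    have e2 : m = v⁻¹ * g := by rw [hgv]; group
    have e3 : m * xG ax s 1 * m⁻¹ = v⁻¹ * (g * xG ax s 1 * g⁻¹) * v := by rw [e2]; group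
    rw [e3, hconj s 1 s.isLt]
    refine Subgroup.mul_mem _ (Subgroup.mul_mem _ (Subgroup.inv_mem _ hvU) ?_) hvU
    rw [posUnipotent_eq ax]
    exact xG_mem_rootClosure ax hs _
  have hv1 : v = 1 := by
    obtain ⟨y, hy⟩ := exists_tor_of_mem ax h (Subgroup.inv_mem _ hmH)
    have e : v = g * m⁻¹ := by rw [hgv]; group
    apply eq_one_of_diagonal h hvU (d := fun i => (Sum.elim (fun _ => (1 : F)) (fun r => (χ r.val : F)) i) * ((torD D y i : Fˣ) : F))
    rw [e, hy, Units.val_mul, hgχ, tor, diagG_val, ChevalleyDatum.charDiag, Matrix.diagonal_mul_diagonal]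
  rw [hgv, hv1, one_mul]
  exact hmH

end Cfsg.Agent.Lib.Steinberg.CharDiag
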