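import Cfsg.Agent.Lib.Steinberg.AutAdj

/-!
The symmetries of the Dynkin diagrams of types `D₄`, `E₆`, `E₇`, `E₈`.
-/

set_option autoImplicit false
set_option maxRecDepth 1000000
set_option synthInstance.maxSize 100000
set_option synthInstance.maxHeartbeats 0
set_option maxHeartbeats 0

namespace Cfsg.Agent.Lib.Steinberg.AutTab3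

open Cfsg _root_.Cfsg.Lie ChevalleyDatum

theorem perm_D4 : ∀ a0 : Fin 4, ∀ a1 : Fin 4, a0 ≠ a1 → chevD4.bonds a0 a1 ≠ 0 → ∀ a2 : Fin 4, a0 ≠ a2 → a1 ≠ a2 → chevD4.bonds a1 a2 ≠ 0 → ∀ a3 : Fin 4, a0 ≠ a3 → a1 ≠ a3 → a2 ≠ a3 → chevD4.bonds a1 a3 ≠ 0 → (a0 = 0 ∧ a1 = 1 ∧ a2 = 2 ∧ a3 = 3) ∨ (a0 = 2 ∧ a1 = 1 ∧ a2 = 3 ∧ a3 = 0) ∨ (a0 = 3 ∧ a1 = 1 ∧ a2 = 0 ∧ a3 = 2) ∨ (a0 = 0 ∧ a1 = 1 ∧ a2 = 3 ∧ a3 = 2) ∨ (a0 = 2 ∧ a1 = 1 ∧ a2 = 0 ∧ a3 = 3) ∨ (a0 = 3 ∧ a1 = 1 ∧ a2 = 2 ∧ a3 = 0) := by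
  decide +kernel

theorem perm_E6 : ∀ a0 : Fin 6, ∀ a2 : Fin 6, a0 ≠ a2 → chevE6.bonds a0 a2 ≠ 0 → ∀ a3 : Fin 6, a0 ≠ a3 → a2 ≠ a3 → chevE6.bonds a2 a3 ≠ 0 → ∀ a1 : Fin 6, a0 ≠ a1 → a2 ≠ a1 → a3 ≠ a1 → chevE6.bonds a3 a1 ≠ 0 → ∀ a4 : Fin 6, a0 ≠ a4 → a2 ≠ a4 → a3 ≠ a4 → a1 ≠ a4 → chevE6.bonds a3 a4 ≠ 0 → ∀ a5 : Fin 6, a0 ≠ a5 → a2 ≠ a5 → a3 ≠ a5 → a1 ≠ a5 → a4 ≠ a5 → chevE6.bonds a4 a5 ≠ 0 → (a0 = 0 ∧ a1 = 1 ∧ a2 = 2 ∧ a3 = 3 ∧ a4 = 4 ∧ a5 = 5) ∨ (a0 = 5 ∧ a1 = 1 ∧ a2 = 4 ∧ a3 = 3 ∧ a4 = 2 ∧ a5 = 0) := by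
  decide +kernel

theorem perm_E7 : ∀ a0 : Fin 7, ∀ a2 : Fin 7, a0 ≠ a2 → chevE7.bonds a0 a2 ≠ 0 → ∀ a3 : Fin 7, a0 ≠ a3 → a2 ≠ a3 → chevE7.bonds a2 a3 ≠ 0 → ∀ a1 : Fin 7, a0 ≠ a1 → a2 ≠ a1 → a3 ≠ a1 → chevE7.bonds a3 a1 ≠ 0 → ∀ a4 : Fin 7, a0 ≠ a4 → a2 ≠ a4 → a3 ≠ a4 → a1 ≠ a4 → chevE7.bonds a3 a4 ≠ 0 → ∀ a5 : Fin 7, a0 ≠ a5 → a2 ≠ a5 → a3 ≠ a5 → a1 ≠ a5 → a4 ≠ a5 → chevE7.bonds a4 a5 ≠ 0 → ∀ a6 : Fin 7, a0 ≠ a6 → a2 ≠ a6 → a3 ≠ a6 → a1 ≠ a6 → a4 ≠ a6 → a5 ≠ a6 → chevE7.bonds a5 a6 ≠ 0 → (a0 = 0 ∧ a1 = 1 ∧ a2 = 2 ∧ a3 = 3 ∧ a4 = 4 ∧ a5 = 5 ∧ a6 = 6) := by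
  decide +kernel

theorem perm_E8 : ∀ a0 : Fin 8, ∀ a2 : Fin 8, a0 ≠ a2 → chevE8.bonds a0 a2 ≠ 0 → ∀ a3 : Fin 8, a0 ≠ a3 → a2 ≠ a3 → chevE8.bonds a2 a3 ≠ 0 → ∀ a1 : Fin 8, a0 ≠ a1 → a2 ≠ a1 → a3 ≠ a1 → chevE8.bonds a3 a1 ≠ 0 → ∀ a4 : Fin 8, a0 ≠ a4 → a2 ≠ a4 → a3 ≠ a4 → a1 ≠ a4 → chevE8.bonds a3 a4 ≠ 0 → ∀ a5 : Fin 8, a0 ≠ a5 → a2 ≠ a5 → a3 ≠ a5 → a1 ≠ a5 → a4 ≠ a5 → chevE8.bonds a4 a5 ≠ 0 → ∀ a6 : Fin 8, a0 ≠ a6 → a2 ≠ a6 → a3 ≠ a6 → a1 ≠ a6 → a4 ≠ a6 → a5 ≠ a6 → chevE8.bonds a5 a6 ≠ 0 → ∀ a7 : Fin 8, a0 ≠ a7 → a2 ≠ a7 → a3 ≠ a7 → a1 ≠ a7 → a4 ≠ a7 → a5 ≠ a7 → a6 ≠ a7 → chevE8.bonds a6 a7 ≠ 0 → (a0 = 0 ∧ a1 = 1 ∧ a2 = 2 ∧ a3 = 3 ∧ a4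 = 4 ∧ a5 = 5 ∧ a6 = 6 ∧ a7 = 7) := by
  decide +kernel

end Cfsg.Agent.Lib.Steinberg.AutTab3
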