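import Cfsg.Agent.Lib.Steinberg.InvMain
import Cfsg.Agent.Lib.Lie.AxOf

/-!
Tables for the classes of involutions in type F4, characteristic two.
-/

set_option autoImplicit false
set_option linter.unusedSectionVars false
set_option linter.unusedVariables false
set_option maxRecDepth 200000

namespace Cfsg.Agent.Lib.Steinberg.InvF4

open Cfsg Lie ChevalleyDatum
open Cfsg.Agent.Lib.Chev
open Tables Tables2 Tables3 AxBasic
open _root_.Cfsg.Agent.Lib.Steinberg.Fold
open _root_.Cfsg.Agent.Lib.Steinberg.InvGen2 _root_.Cfsg.Agent.Lib.Steinberg.InvRank _root_.Cfsg.Agent.Lib.Steinberg.InvLS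

/-- The reflections. -/
def tT : ℕ := 434838091059435210598115074727184486850482768201951325907259007667761848827948461273715609733288688597795037729253172648185955522697027350247848710868605689292895970920764784889837595243834155642689177314745842924328411170297756010309234007128175334478269035515375469106151043406953992346213500916065718797975175254328465420972338076543595762591648343867711692179743363305194992465059023293229667907694350974745675348167196963428667116051571725643514200335712512

/-- The fundamental roots. -/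
def tS : List ℕ := [33,27,25,24]

/-- The frames. -/
def frs : List (List (List ℕ × ℕ)) := [[],
  [([3,2,1,2,3,0,1],2)],
  [([0,1,2,3,1,2,1],0)],
  [([2,3,1,2,1],0),([1,2,3,0,1],2)],
  [([],3),([],1),([2,3,1],2),([0,1,2,3,1,2,1],0)],
  [([],3),([2,3,1,2,1],0),([1,2,3,0,1],2)],
  [([3,2],1),([1],2),([0,1,2,3,1,2,1],0)],
  [([3,2],1),([0,1,2,3,1,2,1],0)]]

/-- The rows. -/
def tbl : List (List ℕ × List ℕ × ℕ) := [([],[],4),
  ([0],[],5),
  ([1],[0,1],5),
  ([0,1,0],[],0),
  ([2],[],6),
  ([0,2],[3,2],3),
  ([1,2,1,2],[],7),
  ([0,1,2,0,1,2,0,1,2],[],1),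
  ([3],[2,3],6),
  ([0,3],[],3),
  ([1,3],[0,1],3),
  ([0,1,3,0],[],0),
  ([2,3,2],[],0),
  ([0,2,3,2],[],0),
  ([1,2,3,1,2,3,1,2,3],[],2),
  ([0,1,2,3,0,1,2,3,0,1,2,3,0,1,2,3,0,1,2,3,0,1,2,3],[],0)]

/-- The moves. -/
def chains : List (List (List ℕ × List ℕ × List ℕ)) := [[],
  [([],[],[47])],
  [([],[],[44])],
  [([],[],[39,45])],
  [([1,2,0],[36,28,26],[31,37,42]),([1,2,1,2,3,2],[],[24,39,45]),([2,1,2,1],[33,31,25],[32,38]),([1,2,1,0,2],[],[39,45])],
  [([2,1,2,1],[33,31,25],[32,38]),([1,2,1,0,2],[],[39,45])],
  [([1,0],[35,29,25],[38,41]),([1,2,1,3,2],[],[39,45])],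
  [([1,0],[25],[38,47]),([0,1,2],[],[47,44])]]

/-- The representatives. -/
def reps : List (List ℕ) := [[47],[44],[47,44],[39,45]]

theorem ft : FT chevF4 4 48 24 tT tS w0F4 := ft_of_chk (by decide +kernel)

theorem hT : allBelow (2 ^ 4) (fun b => rowChk 4 48 24 tT tS w0F4 (frs.map frW) b (tbl.getD b ([], [], 0))) = true := by
  decide +kernel

theorem hfr : frs.all (fun fr => frOK chevF4 fr && pwB (cm4 chevF4) (frR chevF4 fr)) = true := by
  decide +kernel

theorem hch : (List.range frs.length).all (fun k => (frs.getD k []).isEmpty ||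
    reps.any fun rep => runChain chevF4 64 (frR chevF4 (frs.getD k [])) (chains.getD k []) rep) = true := by
  decide +kernel

theorem hreps : reps.all (fun l => l.all (fun r => decide (r < chevF4.nroots)) && pwB (_root_.Cfsg.Agent.Lib.Steinberg.InvMain.cm1 chevF4) l) = true := by
  decide +kernel

/-- Columns. -/
def cols0 : List ℕ := [1548112371908608,16777216,67108864,536870912,2147483648,4294967296,0,68719476736,274877906944,549755813888,0,1099511627776,0,0,0,4398046511104,8796093022208,0,17592186044416,0,0,35184372088832,0,70368744177664,0,0,0,0,0,0,0,0,0,0,0,0,0,0,0,0,0,0,0,0,0,0,0,0,0,0,0,140737488355328]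

/-- Elimination. -/
def bas0 : List ℕ := [1548112371908608,140737488355328,70368744177664,35184372088832,17592186044416,8796093022208,4398046511104,1099511627776,549755813888,274877906944,68719476736,4294967296,2147483648,536870912,67108864,16777216]

theorem rk0 : rankChk chevF4 [47] 52 cols0 bas0 = true := by
  decide +kernel

theorem rkLen0 : bas0.length = 16 := by
  decide +kernel

/-- Columns. -/
def cols1 : List ℕ := [2199023517696,4398047035392,8796094070784,580542139465728,35184506306560,70369012613120,140738025226240,8589934592,17179869184,34359738368,68719476736,137438953472,274877906944,549755813888,1099511627776,0,0,0,0,0,0,0,0,0,0,0,0,0,0,0,0,0,0,0,0,0,0,0,0,0,0,0,0,0,0,0,0,0,17592186044416,0,0,0]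

/-- Elimination. -/
def bas1 : List ℕ := [580542139465728,140738025226240,70369012613120,35184506306560,17592186044416,8796094070784,4398047035392,2199023517696,1099511627776,549755813888,274877906944,137438953472,68719476736,34359738368,17179869184,8589934592]

theorem rk1 : rankChk chevF4 [44] 52 cols1 bas1 = true := by
  decide +kernel

theorem rkLen1 : bas1.length = 16 := by
  decide +kernel

/-- Columns. -/
def cols2 : List ℕ := [1567903581470720,4398063812608,8796161179648,580542676336640,35186653790208,70373307580416,140738025226240,77309411328,292057776128,584115552256,68719476736,1236950581248,274877906944,549755813888,1099511627776,4398046511104,8796093022208,0,17592186044416,0,0,35184372088832,0,70368744177664,0,0,0,0,0,0,0,0,0,0,0,0,0,0,0,0,0,0,0,0,0,0,0,0,17592186044416,0,0,140737488355328]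

/-- Elimination. -/
def bas2 : List ℕ := [1567903581470720,580542676336640,140738025226240,70373307580416,35186653790208,17592186044416,8796161179648,4398063812608,1236950581248,584115552256,292057776128,137438953472,77309411328,34359738368,17179869184,8589934592,4563402752,2281701376,536870912,68157440,17301504]

theorem rk2 : rankChk chevF4 [47,44] 52 cols2 bas2 = true := by
  decide +kernel

theorem rkLen2 : bas2.length = 21 := by
  decide +kernel

/-- Columns. -/
def cols3 : List ℕ := [70506218783232,141012437566464,2568459162484736,1099645853696,4294983680,1073741824,2147483648,17609366962176,282024732524544,137438953472,274877906944,268435456,536870912,1099511627776,0,8804682956800,2199023255552,4398046511104,34359738368,68719476736,17592186044416,70506183131136,141012366262272,0,0,70368744177664,140737488355328,1099511627776,0,0,0,0,0,0,17592186044416,0,0,0,0,0,0,0,0,0,0,0,0,0,0,549755813888,35734127902720,0]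

/-- Elimination. -/
def bas3 : List ℕ := [2568459162484736,282024732524544,141012437566464,70506218783232,35184372088832,17609366962176,8804682956800,4398046511104,2199023255552,1099645853696,549755813888,274877906944,137438953472,68719476736,34359738368,17180917760,4294983680,2147483648,1073741824,536870912,268435456,134225920,71304192,35652096]

theorem rk3 : rankChk chevF4 [39,45] 52 cols3 bas3 = true := by
  decide +kernel

theorem rkLen3 : bas3.length = 24 := by
  decide +kernel


/-- The orbit of the first root. -/
def orbL : List ℕ := [0,1,2,4,5,6,15,16,17,21,22,23,24,25,26,30,31,32,41,42,43,45,46,47]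

theorem hNr : normChk chevF4 47 [] = true := by
  decide +kernel

theorem hNs : normChk chevF4 44 [45,46,47] = true := by
  decide +kernel

theorem hOrb : (List.range chevF4.rank).all (fun i => orbL.all fun x => decide (chevF4.reflectRoot i x ∈ orbL)) = true := by
  decide +kernel

open _root_.Cfsg.Agent.Lib.Steinberg.InvMain _root_.Cfsg.Agent.Lib.Steinberg.InvLS in
/-- The classification of the involutions. -/
theorem stmt {F : Type*} [Field F] [Fintype F] [CharP F 2] :
    (∀ y : GL chevF4.Idx F, (y : Matrix chevF4.Idx chevF4.Idx F) ∈ [chevF4.x F 47 1, chevF4.x F 44 1, chevF4.x F 47 1 * chevF4.x F 44 1, chevF4.x F 39 1 * chevF4.x F 45 1] → y ∈ chevF4.group F ∧ orderOf y = 2) ∧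
    (∀ g ∈ chevF4.group F, orderOf g = 2 → ∃ y ∈ chevF4.group F, (y : Matrix chevF4.Idx chevF4.Idx F) ∈ [chevF4.x F 47 1, chevF4.x F 44 1, chevF4.x F 47 1 * chevF4.x F 44 1, chevF4.x F 39 1 * chevF4.x F 45 1] ∧
      ∃ x ∈ chevF4.group F, x * g * x⁻¹ = y) ∧
    (∀ y₁ ∈ chevF4.group F, ∀ y₂ ∈ chevF4.group F, (y₁ : Matrix chevF4.Idx chevF4.Idx F) ∈ [chevF4.x F 47 1, chevF4.x F 44 1, chevF4.x F 47 1 * chevF4.x F 44 1, chevF4.x F 39 1 * chevF4.x F 45 1] →
      (y₂ : Matrix chevF4.Idx chevF4.Idx F) ∈ [chevF4.x F 47 1, chevF4.x F 44 1, chevF4.x F 47 1 * chevF4.x F 44 1, chevF4.x F 39 1 * chevF4.x F 45 1] →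
      (∃ x ∈ chevF4.group F, x * y₁ * x⁻¹ = y₂) → (y₁ : Matrix chevF4.Idx chevF4.Idx F) = y₂) := by
  have hD : chevF4 ∈ [chevG2, chevB2, chevD4, chevF4, chevE6, chevE7, chevE8] := by simp
  have ax : Ax chevF4 F := Cfsg.Agent.Lib.Lie.AxOf.ax_of_mem hD
  have h : Tab chevF4 := tab_of_mem hD
  have h2 : Tab2 chevF4 := tab2_of_mem hD
  have h3 : Tab3 chevF4 := tab3_of_mem hD
  have hne : ∀ rep ∈ reps, wX ax rep ≠ 1 := by
    intro rep hrep
    simp only [reps, List.mem_cons, List.not_mem_nil, or_false] at hrep
    rcases hrep with rfl | rfl | rfl | rfl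
    · exact ne_one_of_rank ax (k := bas0.length) (rank_of_chk ax rk0) (by rw [rkLen0]; norm_num)
    · exact ne_one_of_rank ax (k := bas1.length) (rank_of_chk ax rk1) (by rw [rkLen1]; norm_num)
    · exact ne_one_of_rank ax (k := bas2.length) (rank_of_chk ax rk2) (by rw [rkLen2]; norm_num)
    · exact ne_one_of_rank ax (k := bas3.length) (rank_of_chk ax rk3) (by rw [rkLen3]; norm_num)
  obtain ⟨hA, hB⟩ := reps_main' ax h h2 h3 ft hT hfr hch hreps hne
  refine statement_form ax (reps := reps) ?_ hA hB ?_
  · simp [reps, mul_assoc]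
  · have hAB : ∀ g ∈ chevF4.group F, g * wX ax [47] * g⁻¹ ≠ wX ax [44] := by
      intro g hg e
      have e' : g * xG ax 47 1 * g⁻¹ = xG ax 44 1 := by
        simpa [wX] using e
      refine not_conj_roots ax h h2 (T := [45,46,47]) (Lo := orbL) (normT_of_chk hNr) (normT_of_chk hNs) (by decide)
        ?_ (by decide) hg e'
      intro i hi x hx
      have := List.all_eq_true.mp (List.all_eq_true.mp hOrb i (List.mem_range.mpr hi)) x hx
      simpa using this
    refine dist_of_rank' ax (ρ := fun l => if l = [47] then 16 else if l = [44] then 16 else if l = [47,44] then 21 else if l = [39,45] then 24 else 0) (A := [47]) (B := [44]) ?_ (by decide) hAB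
    intro rep hrep
    simp only [reps, List.mem_cons, List.not_mem_nil, or_false] at hrep
    rcases hrep with rfl | rfl | rfl | rfl
    · rw [rank_of_chk ax rk0, rkLen0]; decide
    · rw [rank_of_chk ax rk1, rkLen1]; decide
    · rw [rank_of_chk ax rk2, rkLen2]; decide
    · rw [rank_of_chk ax rk3, rkLen3]; decide

end Cfsg.Agent.Lib.Steinberg.InvF4
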